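import Groth.Agent.S3194
import Groth.Agent.Lib.K0Sub.Basic
import Mathlib.RingTheory.Length
import Mathlib.RingTheory.Localization.AtPrime.Basic
import Mathlib.Algebra.Module.LocalizedModule.Exact
import Mathlib.Algebra.Module.Torsion.Basic
import Mathlib.Algebra.Homology.ShortComplex.ModuleCat
import Mathlib.RingTheory.Ideal.Quotient.Noetherian

/-! # `K₀` of finite modules over a ring with two transversal branches -/

set_option autoImplicit false
set_option linter.style.haveILetI false
universe u

open CategoryTheory CategoryTheory.Limits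

noncomputable section

namespace GrothLib.NodeK022

variable {A : Type u} [CommRing A]

/-- Finite modules. -/
abbrev fin (A : Type u) [CommRing A] : ObjectProperty (ModuleCat.{u} A) := fun M => Module.Finite A M

/-- The class of a finite module. -/
abbrev c (M : ModuleCat.{u} A) : KZero.K0sub (fin A) := KZero.clSub (fin A) M

theorem c_seq {X Y Z : ModuleCat.{u} A} (f : X →ₗ[A] Y) (g : Y →ₗ[A] Z) (hf : Function.Injective f)
    (hg : Function.Surjective g) (hfg : Function.Exact f g) (hX : Module.Finite A X) (hY : Module.Finite A Y)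
    (hZ : Module.Finite A Z) : c Y = c X + c Z :=
  K0Sub.clSub_add (P := fin A)
    (S := ShortComplex.moduleCatMk f g (LinearMap.ext fun x => (hfg (f x)).2 ⟨x, rfl⟩))
    { exact := (ShortComplex.ShortExact.moduleCat_exact_iff_function_exact _).2 hfg
      mono_f := (ModuleCat.mono_iff_injective _).2 hf
      epi_g := (ModuleCat.epi_iff_surjective _).2 hg } hX hY hZ

theorem c_subsingleton (X : ModuleCat.{u} A) [Subsingleton X] : c X = 0 :=
  K0Sub.clSub_isZero (ModuleCat.isZero_of_subsingleton X)

theorem c_congr {X Y : ModuleCat.{u} A} (e : X ≃ₗ[A] Y) (hX : Module.Finite A X) : c X = c Y := by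
  have hY : Module.Finite A Y := Module.Finite.equiv e
  have h := c_seq (X := ModuleCat.of A PUnit.{u + 1}) (Y := X) (Z := Y) 0 e.toLinearMap
    (fun a b _ => Subsingleton.elim (α := PUnit.{u + 1}) a b) e.surjective
    (fun x => ⟨fun hx => ⟨⟨⟩, (e.map_eq_zero_iff.1 hx).symm⟩, fun ⟨_, hx⟩ => hx ▸ map_zero e⟩)
    (inferInstanceAs (Module.Finite A PUnit.{u + 1})) hX hY
  haveI : Subsingleton (ModuleCat.of A PUnit.{u + 1}) := inferInstanceAs (Subsingleton PUnit.{u + 1})
  rwa [c_subsingleton (ModuleCat.of A PUnit.{u + 1}), zero_add] at h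

/-- Modules killed by an ideal with principal ideal domain quotient have class a multiple of the quotient. -/
theorem c_mem_zmultiples (I : Ideal A) [IsDomain (A ⧸ I)] [IsPrincipalIdealRing (A ⧸ I)]
    (M : ModuleCat.{u} A) (hM : Module.Finite A M) (hI : ∀ a ∈ I, ∀ m : M, a • m = 0) :
    c M ∈ AddSubgroup.zmultiples (c (ModuleCat.of A (A ⧸ I))) := by
  let R := ModuleCat.restrictScalars.{u} (Ideal.Quotient.mk I)
  have hfin : ∀ N : ModuleCat.{u} (A ⧸ I), Module.Finite (A ⧸ I) N → Module.Finite A (R.obj N) := fun N hN =>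
    letI : Module A N := Module.compHom N (Ideal.Quotient.mk I)
    haveI : IsScalarTower A (A ⧸ I) N := IsScalarTower.of_algebraMap_smul fun _ _ => rfl
    haveI := hN
    (Module.Finite.trans (A ⧸ I) N : Module.Finite A N)
  obtain ⟨ψ, hψ⟩ := K0Sub.exists_lift (P := fin (A ⧸ I)) (fun N => c (R.obj N)) fun S hS h₁ h₂ h₃ =>
    c_seq (S.map R).f.hom (S.map R).g.hom hS.moduleCat_injective_f hS.moduleCat_surjective_g
      ((ShortComplex.ShortExact.moduleCat_exact_iff_function_exact S).1 hS.exact) (hfin _ h₁) (hfin _ h₂) (hfin _ h₃)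
  have htor : Module.IsTorsionBySet A M I := fun m a => hI a a.2 m
  letI : Module (A ⧸ I) M := htor.module
  haveI : IsScalarTower A (A ⧸ I) M := htor.isScalarTower
  haveI : Module.Finite (A ⧸ I) M := Module.Finite.of_restrictScalars_finite A (A ⧸ I) M
  obtain ⟨z, hz⟩ := (Groth.Agent.S3194.result (A ⧸ I)).2 (c (ModuleCat.of (A ⧸ I) M))
  refine AddSubgroup.mem_zmultiples_iff.2 ⟨z, ?_⟩
  have e := congrArg ψ hz
  simp only [map_zsmul] at e
  rw [hψ _ (inferInstanceAs (Module.Finite (A ⧸ I) (A ⧸ I))), hψ _ (inferInstanceAs (Module.Finite (A ⧸ I) M))] at e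
  let e₁ : R.obj (ModuleCat.of (A ⧸ I) (A ⧸ I)) ≃ₗ[A] ModuleCat.of A (A ⧸ I) :=
    { toFun := fun x => x
      invFun := fun x => x
      map_add' := fun _ _ => rfl
      map_smul' := fun a x => (Algebra.smul_def (R := A) (A := A ⧸ I) a x).symm
      left_inv := fun _ => rfl
      right_inv := fun _ => rfl }
  let e₂ : R.obj (ModuleCat.of (A ⧸ I) M) ≃ₗ[A] M :=
    { toFun := fun x => x
      invFun := fun x => x
      map_add' := fun _ _ => rfl
      map_smul' := fun a x => algebraMap_smul (A ⧸ I) a (show M from x)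
      left_inv := fun _ => rfl
      right_inv := fun _ => rfl }
  rwa [c_congr e₁ (hfin _ (inferInstanceAs (Module.Finite (A ⧸ I) (A ⧸ I)))),
    c_congr e₂ (hfin _ (inferInstanceAs (Module.Finite (A ⧸ I) M)))] at e

variable (x y : A) (hxy : x * y = 0)

include hxy in
theorem surjective_pair [IsNoetherianRing A] [IsDomain (A ⧸ Ideal.span {x})] [IsPrincipalIdealRing (A ⧸ Ideal.span {x})]
    [IsDomain (A ⧸ Ideal.span {y})] [IsPrincipalIdealRing (A ⧸ Ideal.span {y})] :
    Function.Surjective fun p : ℤ × ℤ =>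
      p.1 • c (ModuleCat.of A (A ⧸ Ideal.span {x})) + p.2 • c (ModuleCat.of A (A ⧸ Ideal.span {y})) := by
  intro z
  let S := AddSubgroup.zmultiples (c (ModuleCat.of A (A ⧸ Ideal.span {x}))) ⊔
    AddSubgroup.zmultiples (c (ModuleCat.of A (A ⧸ Ideal.span {y})))
  suffices hz : z ∈ S by
    obtain ⟨u, ⟨a, rfl⟩, v, ⟨b, rfl⟩, rfl⟩ := AddSubgroup.mem_sup.1 hz
    exact ⟨(a, b), rfl⟩
  have hid : (QuotientAddGroup.mk' S) = 0 := K0Sub.hom_ext fun M hM => (QuotientAddGroup.eq_zero_iff _).2 <| by
    haveI : Module.Finite A M := hM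
    let N : Submodule A M := LinearMap.range (LinearMap.lsmul A M x)
    have h := c_seq (X := ModuleCat.of A N) (Y := M) (Z := ModuleCat.of A (M ⧸ N)) N.subtype N.mkQ
      N.injective_subtype N.mkQ_surjective (LinearMap.exact_subtype_mkQ N)
      (inferInstanceAs (Module.Finite A N)) hM (inferInstanceAs (Module.Finite A (M ⧸ N)))
    change c M ∈ S
    rw [h]
    refine AddSubgroup.add_mem _ (AddSubgroup.mem_sup_right (c_mem_zmultiples (Ideal.span {y}) (ModuleCat.of A N)
      (inferInstanceAs (Module.Finite A N)) ?_))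
      (AddSubgroup.mem_sup_left (c_mem_zmultiples (Ideal.span {x}) (ModuleCat.of A (M ⧸ N))
      (inferInstanceAs (Module.Finite A (M ⧸ N))) ?_))
    · intro a ha m
      obtain ⟨a, rfl⟩ := Ideal.mem_span_singleton'.1 ha
      obtain ⟨_, ⟨m, rfl⟩⟩ := m
      refine Subtype.ext ?_
      show (a * y) • (x • m) = 0
      rw [smul_smul, mul_assoc, mul_comm y x, hxy, mul_zero, zero_smul]
    · intro a ha m
      obtain ⟨a, rfl⟩ := Ideal.mem_span_singleton'.1 ha
      obtain ⟨m, rfl⟩ := N.mkQ_surjective m
      rw [← map_smul]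
      exact (Submodule.Quotient.mk_eq_zero N).2 ⟨a • m, by
        show x • a • m = (a * x) • m
        rw [smul_smul, mul_comm]⟩
  exact (QuotientAddGroup.eq_zero_iff z).1 (DFunLike.congr_fun hid z)

include hxy in
/-- The rank along the branch `x = 0`. -/
theorem exists_rank (hp : (Ideal.span {x}).IsPrime) (hy : y ∉ Ideal.span {x}) :
    ∃ r : KZero.K0sub (fin A) →+ ℤ, r (c (ModuleCat.of A (A ⧸ Ideal.span {x}))) = 1 ∧
      r (c (ModuleCat.of A (A ⧸ Ideal.span {y}))) = 0 := by
  haveI := hp
  let S := (Ideal.span {x}).primeCompl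
  let L := Localization.AtPrime (Ideal.span {x})
  have hx0 : algebraMap A L x = 0 := by
    have hu : IsUnit (algebraMap A L y) := IsLocalization.map_units L (⟨y, hy⟩ : S)
    exact hu.mul_left_eq_zero.1 (by rw [← map_mul, hxy, map_zero])
  have hm : IsLocalRing.maximalIdeal L = ⊥ := by
    rw [← Localization.AtPrime.map_eq_maximalIdeal, Ideal.map_span, Set.image_singleton, hx0,
      Ideal.span_singleton_eq_bot]
  letI : Field L := (IsLocalRing.isField_iff_maximalIdeal_eq.2 hm).toField
  have hfl : ∀ M : ModuleCat.{u} A, Module.Finite A M → Module.length L (LocalizedModule S M) ≠ ⊤ := fun M hM => by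
    haveI : Module.Finite L (LocalizedModule S M) := Module.Finite.of_isLocalizedModule S (LocalizedModule.mkLinearMap S M)
    exact Module.length_ne_top
  obtain ⟨r, hr⟩ := K0Sub.exists_lift (P := fin A) (fun M => ((Module.length L (LocalizedModule S M)).toNat : ℤ))
    fun T hT h₁ h₂ h₃ => by
      have h := Module.length_eq_add_of_exact (LocalizedModule.map S T.f.hom) (LocalizedModule.map S T.g.hom)
        (LocalizedModule.map_injective S _ hT.moduleCat_injective_f)
        (LocalizedModule.map_surjective S _ hT.moduleCat_surjective_g)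
        (LocalizedModule.map_exact S _ _ ((ShortComplex.ShortExact.moduleCat_exact_iff_function_exact T).1 hT.exact))
      show ((Module.length L (LocalizedModule S T.X₂)).toNat : ℤ) = _ + _
      rw [h, ENat.toNat_add (hfl _ h₁) (hfl _ h₃), Nat.cast_add]
  refine ⟨r, ?_, ?_⟩
  · rw [hr _ (inferInstanceAs (Module.Finite A (A ⧸ Ideal.span {x})))]
    let q : A →ₗ[A] A ⧸ Ideal.span {x} := Submodule.mkQ (Ideal.span {x} : Submodule A A)
    have hb : Function.Bijective (LocalizedModule.map S q) := by
      refine ⟨?_, LocalizedModule.map_surjective S _ (Submodule.mkQ_surjective _)⟩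
      have hex := LocalizedModule.map_exact S (LinearMap.lsmul A A x) q fun a => by
        change (Ideal.Quotient.mk (Ideal.span {x}) a) = 0 ↔ _
        rw [Ideal.Quotient.eq_zero_iff_mem, Ideal.mem_span_singleton']
        exact ⟨fun ⟨b, hb⟩ => ⟨b, (mul_comm x b).trans hb⟩, fun ⟨b, hb⟩ => ⟨b, (mul_comm b x).trans hb⟩⟩
      refine (injective_iff_map_eq_zero _).2 fun z hz => ?_
      obtain ⟨w, rfl⟩ := (hex z).1 hz
      rw [show LinearMap.lsmul A A x = x • LinearMap.id from LinearMap.ext fun _ => rfl, map_smul,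
        IsLocalizedModule.map_id, LinearMap.smul_apply, LinearMap.id_apply, ← algebraMap_smul L x w, hx0, zero_smul]
    rw [← (LinearEquiv.ofBijective _ hb).length_eq,
      ← (IsLocalizedModule.linearEquiv S (Algebra.linearMap A L) (LocalizedModule.mkLinearMap S A) |>.extendScalarsOfIsLocalization S L).length_eq,
      Module.length_eq_one L L]
    rfl
  · rw [hr _ (inferInstanceAs (Module.Finite A (A ⧸ Ideal.span {y})))]
    haveI : Subsingleton (LocalizedModule S (A ⧸ Ideal.span {y})) := LocalizedModule.subsingleton_iff.2 fun m =>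
      ⟨y, hy, by
        obtain ⟨m, rfl⟩ := Ideal.Quotient.mk_surjective m
        rw [Algebra.smul_def, Ideal.Quotient.algebraMap_eq, ← map_mul, Ideal.Quotient.eq_zero_iff_mem]
        exact Ideal.mul_mem_right _ _ (Ideal.mem_span_singleton_self y)⟩
    show ((Module.length L (LocalizedModule S (A ⧸ Ideal.span {y}))).toNat : ℤ) = 0
    rw [Module.length_eq_zero]
    rfl

end GrothLib.NodeK022
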