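import Groth.Agent.Lib.NodeK022.Basic
import Mathlib.Algebra.MvPolynomial.Basic
import Mathlib.Algebra.MvPolynomial.Eval
import Mathlib.RingTheory.Polynomial.Basic
import Mathlib.RingTheory.Ideal.Quotient.Operations

/-! # The node `k[x, y]/(xy)` -/

set_option autoImplicit false
set_option linter.style.haveILetI false
universe u

open MvPolynomial

noncomputable section

namespace GrothLib.NodeK022

variable (k : Type u) [Field k]

/-- The coordinate ring of the node. -/
abbrev Node : Type u := MvPolynomial (Fin 2) k ⧸ Ideal.span {(X 0 * X 1 : MvPolynomial (Fin 2) k)}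

/-- The coordinates. -/
abbrev co (i : Fin 2) : Node k := Ideal.Quotient.mk _ (X i)

theorem co_mul : co k 0 * co k 1 = 0 := by
  rw [← map_mul]
  exact Ideal.Quotient.eq_zero_iff_mem.2 (Ideal.mem_span_singleton_self _)

theorem co_mul' : co k 1 * co k 0 = 0 := by rw [mul_comm]; exact co_mul k

/-- Restriction to a branch. -/
def branch (i : Fin 2) : Node k →+* Polynomial k :=
  Ideal.Quotient.lift _ (aeval fun j => if j = i then 0 else (Polynomial.X : Polynomial k)).toRingHom fun a ha => by
    obtain ⟨b, rfl⟩ := Ideal.mem_span_singleton'.1 ha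
    rw [map_mul, map_mul]
    fin_cases i <;> simp

theorem branch_co (i j : Fin 2) : branch k i (co k j) = if j = i then 0 else Polynomial.X := by simp [branch]

theorem surjective_branch (i : Fin 2) : Function.Surjective (branch k i) := by
  intro p
  refine ⟨Ideal.Quotient.mk _ (Polynomial.aeval (X (i + 1) : MvPolynomial (Fin 2) k) p), ?_⟩
  simp only [branch, Ideal.Quotient.lift_mk]
  induction p using Polynomial.induction_on with
  | C a => simp
  | add p q hp hq => rw [map_add, map_add, hp, hq]
  | monomial n a h =>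
    fin_cases i <;> simp

theorem ker_branch (i : Fin 2) : RingHom.ker (branch k i) = Ideal.span {co k i} := by
  refine le_antisymm (fun a ha => ?_) ?_
  · obtain ⟨p, rfl⟩ := Ideal.Quotient.mk_surjective a
    have h : aeval (fun j => if j = i then 0 else (Polynomial.X : Polynomial k)) p = 0 := ha
    let q := Ideal.Quotient.mkₐ k (Ideal.span {(X i : MvPolynomial (Fin 2) k)})
    have hq : (Polynomial.aeval (q (X (i + 1)))).comp (aeval fun j => if j = i then 0 else (Polynomial.X : Polynomial k)) = q := by
      refine MvPolynomial.algHom_ext fun j => ?_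
      have h0 : q (X i) = 0 := Ideal.Quotient.eq_zero_iff_mem.2 (Ideal.mem_span_singleton_self _)
      fin_cases i <;> fin_cases j <;> simp_all
    have hp : p ∈ Ideal.span {(X i : MvPolynomial (Fin 2) k)} := by
      refine Ideal.Quotient.eq_zero_iff_mem.1 ?_
      change q p = 0
      rw [← hq, AlgHom.comp_apply, h, map_zero]
    have := Ideal.mem_map_of_mem (Ideal.Quotient.mk (Ideal.span {(X 0 * X 1 : MvPolynomial (Fin 2) k)})) hp
    rwa [Ideal.map_span, Set.image_singleton] at this
  · rw [Ideal.span_le, Set.singleton_subset_iff, SetLike.mem_coe, RingHom.mem_ker, branch_co, if_pos rfl]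

/-- A branch is a line. -/
def branchEquiv (i : Fin 2) : (Node k ⧸ Ideal.span {co k i}) ≃+* Polynomial k :=
  (Ideal.quotEquivOfEq (ker_branch k i).symm).trans
    (RingHom.quotientKerEquivOfSurjective (surjective_branch k i))

instance isDomain_branch (i : Fin 2) : IsDomain (Node k ⧸ Ideal.span {co k i}) :=
  (branchEquiv k i).toMulEquiv.isDomain _

instance isPID_branch (i : Fin 2) : IsPrincipalIdealRing (Node k ⧸ Ideal.span {co k i}) :=
  IsPrincipalIdealRing.of_surjective (branchEquiv k i).symm.toRingHom (branchEquiv k i).symm.surjective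

theorem isPrime_branch (i : Fin 2) : (Ideal.span {co k i}).IsPrime :=
  (Ideal.Quotient.isDomain_iff_prime _).1 (isDomain_branch k i)

theorem co_notMem (i j : Fin 2) (h : j ≠ i) : co k j ∉ Ideal.span {co k i} := fun hm => by
  rw [← ker_branch, RingHom.mem_ker, branch_co, if_neg h] at hm
  exact Polynomial.X_ne_zero hm

/-- The two axes are a basis of `K₀`. -/
theorem bijective_axes : Function.Bijective fun p : ℤ × ℤ =>
    p.1 • c (ModuleCat.of (Node k) (Node k ⧸ Ideal.span {co k 0})) +
      p.2 • c (ModuleCat.of (Node k) (Node k ⧸ Ideal.span {co k 1})) := by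
  refine ⟨fun p q hpq => ?_, surjective_pair (co k 0) (co k 1) (co_mul k)⟩
  obtain ⟨r, hr₁, hr₂⟩ := exists_rank (co k 0) (co k 1) (co_mul k) (isPrime_branch k 0) (co_notMem k 0 1 (by decide))
  obtain ⟨s, hs₁, hs₂⟩ := exists_rank (co k 1) (co k 0) (co_mul' k) (isPrime_branch k 1) (co_notMem k 1 0 (by decide))
  have h1 := congrArg r hpq
  have h2 := congrArg s hpq
  simp only [map_add, map_zsmul, hr₁, hr₂, hs₁, hs₂, smul_eq_mul, mul_one, mul_zero, add_zero, zero_add] at h1 h2
  exact Prod.ext h1 h2

end GrothLib.NodeK022
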